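import Mathlib.GroupTheory.PGroup
import Mathlib.FieldTheory.Finite.Basic
import Mathlib.Algebra.Ring.Subring.Basic
import Mathlib.Algebra.CharP.Frobenius
import Mathlib.GroupTheory.GroupAction.ConjAct
import Mathlib.Tactic

/-!
An irreducible nontrivial module for a group of prime order `p` over `F_q` has order `q^e`, where
`e` is the multiplicative order of `q` modulo `p`.
-/

namespace CfsgLib.MinimalNonClosed

open Polynomial

/-- A finite domain of characteristic `q` generated by an element of order `p`. -/
theorem card_of_generated {R : Type*} [Field R] [Finite R] {p q : ℕ}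
    [Fact p.Prime] [Fact q.Prime] (hpq : q ≠ p) (hq0 : (q : R) = 0) {t : R} (ht : t ^ p = 1)
    (htne : t ≠ 1) (hgen : ∀ K : Subring R, t ∈ K → K = ⊤) :
    Nat.card R = q ^ orderOf (q : ZMod p) := by
  classical
  have hq : q.Prime := Fact.out
  haveI : CharP R q := (CharP.charP_iff_prime_eq_zero hq).mpr hq0
  letI : Fintype R := Fintype.ofFinite R
  set e := orderOf (q : ZMod p) with he
  have hqe : q ^ e % p = 1 := by
    have h1 : ((q ^ e : ℕ) : ZMod p) = ((1 : ℕ) : ZMod p) := by
      push_cast; exact pow_orderOf_eq_one _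
    rw [ZMod.natCast_eq_natCast_iff'] at h1
    rwa [Nat.one_mod_eq_one.mpr (Fact.out : p.Prime).ne_one] at h1
  have hfix : ∀ S : R, S ^ q ^ e = S := by
    let K : Subring R := RingHom.eqLocus (iterateFrobenius R q e) (RingHom.id R)
    have htK : t ∈ K := by
      show t ^ q ^ e = t
      conv_lhs => rw [← Nat.div_add_mod (q ^ e) p, hqe, pow_add, pow_mul, ht, one_pow, one_mul, pow_one]
    intro S
    have : S ∈ K := by rw [hgen K htK]; trivial
    exact this
  have hqp : 0 < orderOf (q : ZMod p) := by
    have hne : (q : ZMod p) ≠ 0 := fun h =>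
      hpq (((Nat.prime_dvd_prime_iff_eq Fact.out hq).mp ((ZMod.natCast_eq_zero_iff q p).mp h)).symm)
    exact orderOf_pos_iff.mpr (isOfFinOrder_iff_pow_eq_one.mpr
      ⟨p - 1, Nat.sub_pos_of_lt (Fact.out : p.Prime).one_lt, ZMod.pow_card_sub_one_eq_one hne⟩)
  have hle : Fintype.card R ≤ q ^ e := by
    have h1 : 1 < q ^ e := Nat.one_lt_pow hqp.ne' hq.one_lt
    have hne : (X ^ q ^ e - X : R[X]) ≠ 0 := FiniteField.X_pow_card_sub_X_ne_zero R h1
    calc Fintype.card R ≤ (X ^ q ^ e - X : R[X]).roots.toFinset.card := by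
          refine Finset.card_le_card (fun S _ => ?_)
          rw [Multiset.mem_toFinset, mem_roots hne]
          simp [hfix S]
      _ ≤ (X ^ q ^ e - X : R[X]).roots.card := Multiset.toFinset_card_le _
      _ ≤ (X ^ q ^ e - X : R[X]).natDegree := card_roots' _
      _ = q ^ e := FiniteField.X_pow_card_sub_X_natDegree_eq R h1
  obtain ⟨⟨n, hn0⟩, -, hn⟩ := FiniteField.card R q
  simp only [PNat.mk_coe] at hn
  have ht0 : t ≠ 0 := fun h => by
    rw [h, zero_pow (Fact.out : p.Prime).ne_zero] at ht; exact zero_ne_one ht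
  have hdvd : p ∣ q ^ n - 1 := by
    rw [← orderOf_eq_prime ht htne, ← hn]
    exact orderOf_dvd_of_pow_eq_one (FiniteField.pow_card_sub_one_eq_one t ht0)
  have hen : e ∣ n := by
    rw [he, orderOf_dvd_iff_pow_eq_one, ← Nat.cast_pow, ← Nat.cast_one (R := ZMod p),
      ZMod.natCast_eq_natCast_iff]
    exact ((Nat.modEq_iff_dvd' (Nat.one_le_pow _ _ hq.pos)).mpr hdvd).symm
  rw [hn] at hle
  have hn_eq : n = e := le_antisymm ((Nat.pow_le_pow_iff_right hq.one_lt).mp hle)
    (Nat.le_of_dvd hn0 hen)
  rw [Nat.card_eq_fintype_card, hn, hn_eq]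

/-- The order of an irreducible nontrivial module. -/
theorem card_of_irreducible {A : Type*} [AddCommGroup A] [Finite A] [Nontrivial A] {p q : ℕ}
    [Fact p.Prime] (hq : q.Prime) (hpq : q ≠ p) (hA : ∀ v : A, q • v = 0)
    (T : AddMonoid.End A) (hT : T ^ p = 1) (hT1 : T ≠ 1)
    (hirr : ∀ B : AddSubgroup A, (∀ b ∈ B, T b ∈ B) → B = ⊥ ∨ B = ⊤) :
    Nat.card A = q ^ orderOf (q : ZMod p) := by
  classical
  haveI : Fact q.Prime := ⟨hq⟩
  let R := Subring.closure ({T} : Set (AddMonoid.End A))
  have hcomm : ∀ S ∈ R, S * T = T * S := by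
    intro S hS
    have hle : R ≤ Subring.centralizer ({T} : Set (AddMonoid.End A)) :=
      Subring.closure_le.mpr fun x hx => Set.mem_centralizer_iff.mpr fun y hy => by
        rw [Set.mem_singleton_iff] at hx hy; rw [hx, hy]
    exact ((Subring.mem_centralizer_iff.mp (hle hS)) T rfl).symm
  letI : CommRing R := Subring.closureCommRingOfComm fun a ha b hb => by
    rw [Set.mem_singleton_iff] at ha hb; rw [ha, hb]
  have hker : ∀ S : R, S ≠ 0 → ∀ v : A, (S : AddMonoid.End A) v = 0 → v = 0 := by
    intro S hS v hv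
    let B : AddSubgroup A := AddMonoidHom.ker (S : AddMonoid.End A)
    have hB : ∀ b ∈ B, T b ∈ B := fun b hb => by
      show ((S : AddMonoid.End A) * T) b = 0
      rw [hcomm S S.2]
      show T ((S : AddMonoid.End A) b) = 0
      rw [show (S : AddMonoid.End A) b = 0 from hb, map_zero]
    rcases hirr B hB with h | h
    · have : v ∈ B := hv
      rwa [h] at this
    · exfalso
      apply hS
      apply Subtype.ext
      apply AddMonoidHom.ext
      intro w
      exact (h ▸ AddSubgroup.mem_top w : w ∈ B)
  haveI : Nontrivial R := by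
    refine ⟨⟨0, 1, fun h => ?_⟩⟩
    obtain ⟨v, hv⟩ := exists_ne (0 : A)
    apply hv
    have := congrArg (fun S : R => (S : AddMonoid.End A) v) h
    simpa using this.symm
  haveI : NoZeroDivisors R := ⟨fun {a b} h => by
    by_contra! hne
    apply hne.2
    refine Subtype.ext (AddMonoidHom.ext fun v => hker a hne.1 _ ?_)
    exact congrArg (fun S : R => (S : AddMonoid.End A) v) h⟩
  haveI : IsDomain R := NoZeroDivisors.to_isDomain R
  obtain ⟨v, hv⟩ := exists_ne (0 : A)
  let ev : R →+ A := AddMonoidHom.mk' (fun S => (S : AddMonoid.End A) v) (fun _ _ => rfl)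
  have hinj : Function.Injective ev := by
    rw [injective_iff_map_eq_zero]
    intro S hS
    by_contra hne
    exact hv (hker S hne v hS)
  have hsurj : Function.Surjective ev := by
    have hB : ∀ b ∈ ev.range, T b ∈ ev.range := by
      rintro _ ⟨S, rfl⟩
      exact ⟨⟨T, Subring.subset_closure rfl⟩ * S, rfl⟩
    rcases hirr _ hB with h | h
    · exfalso
      apply hv
      have : v ∈ ev.range := ⟨1, rfl⟩
      rwa [h] at this
    · exact AddMonoidHom.range_eq_top.mp h
  have hcard : Nat.card R = Nat.card A := Nat.card_congr (Equiv.ofBijective ev ⟨hinj, hsurj⟩)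
  haveI : Finite R := Finite.of_injective ev hinj
  letI : Fintype R := Fintype.ofFinite R
  have hq0 : (q : R) = 0 := hinj (by
    rw [map_zero, show (q : R) = q • (1 : R) by simp, map_nsmul]; exact hA _)
  haveI : CharP R q := (CharP.charP_iff_prime_eq_zero hq).mpr hq0
  letI : Field R := Fintype.fieldOfDomain R
  refine hcard.symm.trans (card_of_generated hpq hq0 (t := ⟨T, Subring.subset_closure rfl⟩)
    (Subtype.ext (by simpa using hT)) (fun h => hT1 (congrArg Subtype.val h)) fun K htK => ?_)
  rw [eq_top_iff]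
  intro S _
  have hle : R ≤ K.map R.subtype := Subring.closure_le.mpr (by
    rintro x hx
    rw [Set.mem_singleton_iff] at hx
    exact ⟨⟨T, Subring.subset_closure rfl⟩, htK, hx.symm⟩)
  obtain ⟨S', hS', hSS⟩ := hle S.2
  rw [← show S' = S from Subtype.ext hSS]
  exact hS'

variable {G : Type*} [Group G] [Finite G] {p q : ℕ} [Fact p.Prime]

/-- The order of a minimal normal elementary abelian subgroup on which an element of order `p`
acts nontrivially, with `G = A⟨x⟩`. -/
theorem card_minimal_normal (hq : q.Prime) (hpq : q ≠ p) (A : Subgroup G) [A.Normal]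
    (hne : A ≠ ⊥) (hcA : ∀ a ∈ A, ∀ b ∈ A, a * b = b * a) (hexp : ∀ a ∈ A, a ^ q = 1)
    (x : G) (hxp : x ^ p ∈ Subgroup.centralizer (A : Set G))
    (hgen : A ⊔ Subgroup.zpowers x = ⊤) (hact : x ∉ Subgroup.centralizer (A : Set G))
    (hmin : ∀ B : Subgroup G, B.Normal → B ≤ A → B = ⊥ ∨ B = A) :
    Nat.card A = q ^ orderOf (q : ZMod p) := by
  classical
  letI : CommGroup A := { mul_comm := fun a b => Subtype.ext (hcA a a.2 b b.2) }
  haveI : Nontrivial A := (Subgroup.nontrivial_iff_ne_bot A).mpr hne
  let f : A →* A := (MulAut.conjNormal x : MulAut A).toMonoidHom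
  let T : AddMonoid.End (Additive A) := MonoidHom.toAdditive f
  have hTapp : ∀ (k : ℕ) (a : A), ((Additive.toMul ((T ^ k) (Additive.ofMul a)) : A) : G) =
      x ^ k * (a : G) * (x ^ k)⁻¹ := by
    intro k
    induction k with
    | zero => intro a; simp
    | succ k ih =>
      intro a
      rw [pow_succ', pow_succ']
      show ((f (Additive.toMul ((T ^ k) (Additive.ofMul a))) : A) : G) = _
      rw [show ((f _ : A) : G) = x * _ * x⁻¹ from MulAut.conjNormal_apply _ _, ih]
      group
  rw [show Nat.card A = Nat.card (Additive A) from Nat.card_congr Additive.ofMul]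
  refine card_of_irreducible hq hpq ?_ T ?_ ?_ ?_
  · intro v
    rw [← ofMul_toMul v, ← ofMul_pow, ← ofMul_one]
    congr 1
    exact Subtype.ext (by simpa using hexp _ (Additive.toMul v).2)
  · apply AddMonoidHom.ext
    intro a
    apply Additive.toMul.injective
    apply Subtype.ext
    refine (hTapp p (Additive.toMul a)).trans ?_
    show x ^ p * (Additive.toMul a : A) * (x ^ p)⁻¹ = ((Additive.toMul a : A) : G)
    rw [← Subgroup.mem_centralizer_iff.mp hxp _ (Additive.toMul a).2, mul_inv_cancel_right]
  · intro h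
    apply hact
    rw [Subgroup.mem_centralizer_iff]
    intro a ha
    have := hTapp 1 ⟨a, ha⟩
    rw [pow_one, h, pow_one] at this
    have h2 : a = x * a * x⁻¹ := this
    exact eq_mul_inv_iff_mul_eq.mp h2
  · intro B hB
    let B' : Subgroup G := (Subgroup.toAddSubgroup.symm B).map A.subtype
    have hB'A : B' ≤ A := Subgroup.map_subtype_le _
    have hmemB : ∀ (a : A), (a : G) ∈ B' ↔ Additive.ofMul a ∈ B := by
      intro a
      constructor
      · rintro ⟨b, hb, hbe⟩
        rw [← show b = a from Subtype.ext hbe]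
        exact hb
      · exact fun h => ⟨a, h, rfl⟩
    have hn : B'.Normal := by
      rw [← Subgroup.normalizer_eq_top_iff, eq_top_iff, ← hgen]
      refine sup_le (fun a ha => ?_) (Subgroup.zpowers_le.mpr ?_)
      · rw [Subgroup.mem_normalizer_iff]
        intro b
        constructor
        · intro hb
          rwa [hcA a ha b (hB'A hb), mul_inv_cancel_right]
        · intro hb
          have hbA : b ∈ A := by
            have := A.mul_mem (A.mul_mem (A.inv_mem ha) (hB'A hb)) ha
            simpa [mul_assoc] using this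
          rwa [hcA a ha b hbA, mul_inv_cancel_right] at hb
      · refine Subgroup.mem_normalizer_iff_map_conj_eq.mpr (Subgroup.eq_of_le_of_card_ge ?_
          (Subgroup.card_map_of_injective (MulAut.conj x).injective).ge)
        rintro _ ⟨b, hb, rfl⟩
        have h1 := hB _ ((hmemB ⟨b, hB'A hb⟩).mp hb)
        exact ⟨_, h1, MulAut.conjNormal_apply _ _⟩
    rcases hmin B' hn hB'A with h | h
    · left
      rw [AddSubgroup.eq_bot_iff_forall]
      intro v hv
      have : ((Additive.toMul v : A) : G) ∈ B' := (hmemB _).mpr (by simpa using hv)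
      rw [h, Subgroup.mem_bot] at this
      exact Additive.toMul.injective (Subtype.ext this)
    · right
      rw [eq_top_iff]
      intro v _
      have : ((Additive.toMul v : A) : G) ∈ B' := h.symm ▸ (Additive.toMul v).2
      simpa using (hmemB _).mp this

end CfsgLib.MinimalNonClosed
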