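import Cfsg.Agent.MinimalNonClosed.Irreducible
import Cfsg.Agent.Coprime.Action
import Cfsg.Agent.Solvable.Basic
import Cfsg.Prelude.Def_LocalStructure
import Cfsg.Prelude.Def_Transfer

/-!
Structure of minimal groups that are not `p`-closed, or in which the solutions of `x^p = 1` form no
subgroup, in the non-simple case.
-/

namespace CfsgLib.MinimalNonClosed

open Subgroup

variable {G : Type*} [Group G] [Finite G] {p : ℕ} [Fact p.Prime]

/-- Elementwise form of "`L` centralises `K`". -/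
def Centralizes (L K : Subgroup G) : Prop := ∀ x ∈ L, ∀ k ∈ K, x * k = k * x

theorem centralizes_of_normal {H L K : Subgroup G} (hL : L ≤ H) (hK : K ≤ H)
    (hLn : (L.subgroupOf H).Normal) (hKn : L ≤ normalizer (K : Set G)) (hdisj : K ⊓ L = ⊥) :
    Centralizes L K := by
  intro x hx k hk
  have h1 : x * k * x⁻¹ * k⁻¹ ∈ K := mul_mem ((mem_normalizer_iff.mp (hKn hx) k).mp hk) (inv_mem hk)
  have h2 : x * (k * x⁻¹ * k⁻¹) ∈ L := mul_mem hx
    (hLn.conj_mem ⟨x⁻¹, inv_mem (hL hx)⟩ (mem_subgroupOf.mpr (inv_mem hx)) ⟨k, hK hk⟩ :)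
  have h3 : x * k * x⁻¹ * k⁻¹ = 1 := by
    rw [← mem_bot, ← hdisj]
    exact ⟨h1, by simpa [mul_assoc] using h2⟩
  rwa [mul_inv_eq_one, mul_inv_eq_iff_eq_mul] at h3

theorem exists_sylow_eq_subgroupOf {N P₀ K : Subgroup G} (hK : K ≤ N) (hN : ¬ p ∣ Nat.card N)
    (hP : IsPGroup p P₀) (hn : P₀ ≤ normalizer (K : Set G)) :
    ∃ S : Sylow p ↥(K ⊔ P₀), (S : Subgroup ↥(K ⊔ P₀)) = P₀.subgroupOf (K ⊔ P₀) ∧ K ⊓ P₀ = ⊥ := by
  have hKp : ¬ p ∣ Nat.card K := fun h => hN (h.trans (card_dvd_of_le hK))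
  obtain ⟨k, hk⟩ := IsPGroup.iff_card.mp hP
  have hcop : (Nat.card K).Coprime (Nat.card P₀) := by
    rw [hk]; exact (((Fact.out : p.Prime).coprime_iff_not_dvd.mpr hKp).symm).pow_right k
  have hdisj : K ⊓ P₀ = ⊥ := Coprime.inf_eq_bot_of_coprime hcop
  have hc := Coprime.card_sup_eq hn hdisj
  refine ⟨(hP.comap_of_injective (K ⊔ P₀).subtype Subtype.val_injective).toSylow ?_, rfl, hdisj⟩
  change ¬ p ∣ (P₀.subgroupOf (K ⊔ P₀)).index
  have h := (P₀.subgroupOf (K ⊔ P₀)).card_mul_index
  rw [Nat.card_congr (subgroupOfEquivOfLe (le_sup_right : P₀ ≤ K ⊔ P₀)).toEquiv, hc,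
    mul_comm (Nat.card K)] at h
  rw [Nat.eq_of_mul_eq_mul_left Nat.card_pos h]
  exact hKp

theorem centralizes_of_isPClosed {N P₀ K : Subgroup G} (hK : K ≤ N) (hN : ¬ p ∣ Nat.card N)
    (hP : IsPGroup p P₀) (hn : P₀ ≤ normalizer (K : Set G))
    (hc : Cfsg.IsPClosed p ↥(K ⊔ P₀)) : Centralizes P₀ K := by
  obtain ⟨S, hS, hdisj⟩ := exists_sylow_eq_subgroupOf hK hN hP hn
  exact centralizes_of_normal le_sup_right le_sup_left (hS ▸ hc S) hn hdisj

theorem centralizes_of_omega {N P₀ K : Subgroup G} (hK : K ≤ N) (hN : ¬ p ∣ Nat.card N)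
    (hP : IsPGroup p P₀) (hn : P₀ ≤ normalizer (K : Set G)) (hexp : ∀ x ∈ P₀, x ^ p = 1)
    (hc : ∃ H : Subgroup ↥(K ⊔ P₀), (H : Set ↥(K ⊔ P₀)) = {g | g ^ p = 1}) : Centralizes P₀ K := by
  obtain ⟨S, hS, hdisj⟩ := exists_sylow_eq_subgroupOf hK hN hP hn
  obtain ⟨O, hO⟩ := hc
  have hmem : ∀ g, g ∈ O ↔ g ^ p = 1 := fun g => Set.ext_iff.mp hO g
  have hOp : IsPGroup p O := fun g => ⟨1, Subtype.ext (by rw [pow_one]; exact (hmem g).mp g.2)⟩
  have hSO : O = (S : Subgroup ↥(K ⊔ P₀)) := S.is_maximal' hOp fun g hg => (hmem g).mpr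
    (Subtype.ext (hexp _ (show (g : G) ∈ P₀ from mem_subgroupOf.mp (hS ▸ hg :))))
  have hOn : O.Normal := ⟨fun g hg c => (hmem _).mpr (by rw [conj_pow, (hmem g).mp hg, mul_one,
    mul_inv_cancel])⟩
  exact centralizes_of_normal le_sup_right le_sup_left (hS ▸ hSO ▸ hOn) hn hdisj

/-- The common core: an irreducible coprime action of a Sylow subgroup of order `p`. -/
theorem structure_of_sylow_prime (N : Subgroup G) [N.Normal] (hN : N ≠ ⊥) (hNp : ¬ p ∣ Nat.card N)
    (hmin : ∀ B : Subgroup G, B.Normal → B ≤ N → B = ⊥ ∨ B = N)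
    (P : Sylow p G) (hgen : N ⊔ (P : Subgroup G) = ⊤) (hP : Nat.card P = p)
    (hact : ¬ Centralizes (P : Subgroup G) N)
    (hK : ∀ K ≤ N, (P : Subgroup G) ≤ normalizer (K : Set G) → K ⊔ (P : Subgroup G) ≠ ⊤ →
      Centralizes (P : Subgroup G) K) :
    ∃ q : ℕ, q.Prime ∧ q ≠ p ∧ Nat.card G = p * q ^ orderOf (q : ZMod p) ∧
      ∃ A : Subgroup G, A.Normal ∧ Nat.card ↥A = q ^ orderOf (q : ZMod p) ∧
        Cfsg.IsElementaryAbelian q A ∧ ∀ B : Subgroup G, B.Normal → B ≤ A → B = ⊥ ∨ B = A := by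
  classical
  have hNn : (P : Subgroup G) ≤ normalizer (N : Set G) := by
    rw [normalizer_eq_top]; exact le_top
  have hcop : (Nat.card (P : Subgroup G)).Coprime (Nat.card N) := by
    rw [hP]; exact (Fact.out : p.Prime).coprime_iff_not_dvd.mpr hNp
  have hPsolv : Group.IsSolvable (P : Subgroup G) := by
    haveI := P.2.isNilpotent; infer_instance
  have hdisj : N ⊓ (P : Subgroup G) = ⊥ := Coprime.inf_eq_bot_of_coprime hcop.symm
  have hcardG : Nat.card G = Nat.card N * p := by
    conv_rhs => rw [← hP]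
    rw [← Coprime.card_sup_eq hNn hdisj, hgen, card_top]
  obtain ⟨q, hq, hqN, Q, hQN, hQn, hQtop, hQp⟩ : ∃ q : ℕ, q.Prime ∧ q ∣ Nat.card N ∧
      ∃ Q : Subgroup G, Q ≤ N ∧ (P : Subgroup G) ≤ normalizer (Q : Set G) ∧
        Q ⊔ (P : Subgroup G) = ⊤ ∧ IsPGroup q Q := by
    by_contra hcon
    push Not at hcon
    apply hact
    set C := centralizer ((P : Subgroup G) : Set G) ⊓ N with hC
    suffices hCN : N ≤ C from fun x hx k hk => mem_centralizer_iff.mp (hCN hk).1 x hx
    have hall : ∀ q ∈ (Nat.card N).primeFactors,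
        q ^ (Nat.card N).factorization q ∣ Nat.card C := by
      intro q hq
      obtain ⟨hqp, hqd, -⟩ := Nat.mem_primeFactors.mp hq
      haveI : Fact q.Prime := ⟨hqp⟩
      obtain ⟨Q, hQ⟩ := Coprime.exists_invariant_sylow hNn hcop (Or.inl hPsolv) q
      set Q' := (Q : Subgroup N).map N.subtype
      have hQ'N : Q' ≤ N := map_subtype_le _
      have hc := hK Q' hQ'N hQ (fun h => hcon q hqp hqd Q' hQ'N hQ h (Q.2.map _))
      rw [← Q.card_eq_multiplicity, ← card_map_of_injective N.subtype_injective]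
      exact card_dvd_of_le fun k hk =>
        ⟨mem_centralizer_iff.mpr fun x hx => hc x hx k hk, hQ'N hk⟩
    have hdvd : Nat.card N ∣ Nat.card C := by
      rw [← Nat.factorization_le_iff_dvd Nat.card_pos.ne' Nat.card_pos.ne']
      intro q
      by_cases hq : q ∈ (Nat.card N).primeFactors
      · exact ((Nat.mem_primeFactors.mp hq).1.pow_dvd_iff_le_factorization Nat.card_pos.ne').mp
          (hall q hq)
      · have : (Nat.card N).factorization q = 0 := by
          rwa [← Finsupp.notMem_support_iff, Nat.support_factorization]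
        omega
    exact (eq_of_le_of_card_ge inf_le_right (Nat.le_of_dvd Nat.card_pos hdvd)).ge
  haveI : Fact q.Prime := ⟨hq⟩
  have hQN' : Q = N := by
    refine eq_of_le_of_card_ge hQN (le_of_eq ?_)
    have h1 := Coprime.card_sup_eq hQn (le_bot_iff.mp (hdisj ▸ inf_le_inf_right _ hQN))
    rw [hQtop, card_top, hcardG, hP] at h1
    exact Nat.eq_of_mul_eq_mul_right (Fact.out : p.Prime).pos h1
  subst hQN'
  haveI := hQp.isNilpotent
  haveI : Group.IsSolvable Q := inferInstance
  have hcA := Solvable.mul_comm_of_minimal_normal hN hmin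
  obtain ⟨q', hq', hexp⟩ := Solvable.exists_prime_pow_eq_one_of_minimal_normal hN hmin
  have hqq : q' = q := by
    obtain ⟨a, ha⟩ := exists_prime_orderOf_dvd_card' (G := Q) q hqN
    have h1 : orderOf a ∣ q' := orderOf_dvd_of_pow_eq_one (Subtype.ext (by simpa using hexp _ a.2))
    rw [ha] at h1
    exact ((Nat.prime_dvd_prime_iff_eq hq hq').mp h1).symm
  subst hqq
  have hqp : q' ≠ p := fun h => hNp (h ▸ hqN)
  obtain ⟨x, hx⟩ := exists_prime_orderOf_dvd_card' (G := (P : Subgroup G)) p (dvd_of_eq hP.symm)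
  have hPx : (P : Subgroup G) = zpowers (x : G) := by
    refine (eq_of_le_of_card_ge (zpowers_le.mpr x.2) (le_of_eq ?_)).symm
    rw [Nat.card_zpowers, orderOf_coe, hx, hP]
  have hxp : (x : G) ^ p = 1 := by
    have := pow_orderOf_eq_one (x : G)
    rwa [orderOf_coe, hx] at this
  have hcard := card_minimal_normal (p := p) hq' hqp Q hN hcA hexp (x : G)
    (by rw [hxp]; exact one_mem _) (hPx ▸ hgen) (fun h => hact ?_) hmin
  · refine ⟨q', hq', hqp, by rw [hcardG, hcard, mul_comm], Q, inferInstance, hcard,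
      ⟨Solvable.isMulCommutative_of_minimal_normal hN hmin, hexp⟩, hmin⟩
  · intro y hy k hk
    rw [hPx] at hy
    obtain ⟨i, rfl⟩ := mem_zpowers_iff.mp hy
    exact (Commute.zpow_left (show Commute (x : G) k from (mem_centralizer_iff.mp h k hk).symm) i).eq

theorem isPClosed_of_isPGroup {H : Type*} [Group H] (h : IsPGroup p H) : Cfsg.IsPClosed p H := by
  intro S
  have : (S : Subgroup H) = ⊤ := (S.is_maximal' (h.to_subgroup ⊤) le_top).symm
  rw [this]; infer_instance

/-- If `P` is normal modulo a normal `p'`-subgroup `N` with `[N, P] = 1`, it is normal. -/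
theorem normal_of_centralizes (N : Subgroup G) [N.Normal] (P : Sylow p G)
    (hgen : N ⊔ (P : Subgroup G) = ⊤) (hc : Centralizes (P : Subgroup G) N) :
    (P : Subgroup G).Normal := by
  rw [← normalizer_eq_top_iff, eq_top_iff, ← hgen]
  refine sup_le (fun k hk => mem_normalizer_iff.mpr fun x => ?_) le_normalizer
  refine ⟨fun hx => ?_, fun hx => ?_⟩
  · rwa [← hc x hx k hk, mul_inv_cancel_right]
  · have := hc _ hx k⁻¹ (inv_mem hk)
    have e : x = k * x * k⁻¹ := by
      calc x = k⁻¹ * (k * x * k⁻¹) * k := by group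
        _ = k * x * k⁻¹ * k⁻¹ * k := by rw [this]
        _ = k * x * k⁻¹ := by group
    rwa [e]

theorem structure_of_isPClosed (hnc : ¬ Cfsg.IsPClosed p G)
    (hsub : ∀ H : Subgroup G, H ≠ ⊤ → Cfsg.IsPClosed p ↥H)
    (hquo : ∀ (N : Subgroup G) [N.Normal], N ≠ ⊥ → Cfsg.IsPClosed p (G ⧸ N))
    (hns : ¬ IsSimpleGroup G) :
    ∃ q : ℕ, q.Prime ∧ q ≠ p ∧ Nat.card G = p * q ^ orderOf (q : ZMod p) ∧
      ∃ A : Subgroup G, A.Normal ∧ Nat.card ↥A = q ^ orderOf (q : ZMod p) ∧
        Cfsg.IsElementaryAbelian q A ∧ ∀ B : Subgroup G, B.Normal → B ≤ A → B = ⊥ ∨ B = A := by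
  classical
  haveI : Nontrivial G := by
    by_contra h
    rw [not_nontrivial_iff_subsingleton] at h
    exact hnc (isPClosed_of_isPGroup fun g => ⟨0, Subsingleton.elim _ _⟩)
  obtain ⟨N, hNn, hN, hmin⟩ := Solvable.exists_minimal_normal (G := G)
  have hNtop : N ≠ ⊤ := fun h => hns
    ⟨fun B hB => (hmin B hB (h ▸ le_top)).imp_right (fun e => e.trans h)⟩
  obtain ⟨P, hPn⟩ : ∃ P : Sylow p G, ¬ (P : Subgroup G).Normal := not_forall.mp hnc
  -- normality of the image of a Sylow subgroup
  have himg : ∀ (M : Subgroup G) [M.Normal], M ≠ ⊥ → ((P : Subgroup G) ⊔ M).Normal := by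
    intro M _ hM
    have h := hquo M hM (P.mapSurjective (QuotientGroup.mk'_surjective M))
    rw [Sylow.coe_mapSurjective] at h
    have h2 := h.comap (QuotientGroup.mk' M)
    rwa [comap_map_eq, QuotientGroup.ker_mk'] at h2
  have hNp : ¬ p ∣ Nat.card N := by
    intro hd
    obtain ⟨S⟩ : Nonempty (Sylow p N) := inferInstance
    have hS : (S : Subgroup N).Normal := hsub N hNtop S
    haveI := S.characteristic_of_normal hS
    have hn : ((S : Subgroup N).map N.subtype).Normal := inferInstance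
    rcases hmin _ hn (map_subtype_le _) with h | h
    · exact S.ne_bot_of_dvd_card hd (by rwa [map_eq_bot_iff_of_injective _ N.subtype_injective] at h)
    · have hNle : N ≤ (P : Subgroup G) := (h ▸ S.2.map N.subtype : IsPGroup p N).le_sylow_of_normal P
      have := himg N hN
      rw [sup_eq_left.mpr hNle] at this
      exact hPn this
  have hgen : N ⊔ (P : Subgroup G) = ⊤ := by
    by_contra h
    have hM : ((P : Subgroup G) ⊔ N).Normal := himg N hN
    set M := (P : Subgroup G) ⊔ N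
    have hPM : (P : Subgroup G) ≤ M := le_sup_left
    have hS := hsub M (fun e => h (sup_comm N (P : Subgroup G) ▸ e)) (P.subtype hPM)
    haveI := (P.subtype hPM).characteristic_of_normal hS
    have hn : (((P.subtype hPM : Sylow p M) : Subgroup M).map M.subtype).Normal := inferInstance
    rw [Sylow.coe_subtype, subgroupOf_map_subtype, inf_of_le_left hPM] at hn
    exact hPn hn
  have hcop : (Nat.card N).Coprime (Nat.card (P : Subgroup G)) := by
    obtain ⟨k, hk⟩ := IsPGroup.iff_card.mp P.2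
    rw [hk]; exact (((Fact.out : p.Prime).coprime_iff_not_dvd.mpr hNp).symm).pow_right k
  have hdisj : N ⊓ (P : Subgroup G) = ⊥ := Coprime.inf_eq_bot_of_coprime hcop
  have hK : ∀ P₀ ≤ (P : Subgroup G), ∀ K ≤ N, P₀ ≤ normalizer (K : Set G) → K ⊔ P₀ ≠ ⊤ →
      Centralizes P₀ K := fun P₀ hP₀ K hK hn hne =>
    centralizes_of_isPClosed hK hNp (P.2.to_le hP₀) hn (hsub _ hne)
  have hact : ¬ Centralizes (P : Subgroup G) N := fun h => hPn (normal_of_centralizes N P hgen h)
  refine structure_of_sylow_prime N hN hNp hmin P hgen ?_ hact (hK _ le_rfl)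
  -- the Sylow subgroup has order `p`
  haveI hPnil := P.2.isNilpotent
  have hM0 : ∀ M : Subgroup (P : Subgroup G), IsCoatom M → M = ⊥ := by
    intro M hM
    haveI : M.Normal := NormalizerCondition.normal_of_coatom M
      Group.normalizerCondition_of_isNilpotent hM
    set P₀ := M.map (P : Subgroup G).subtype with hP₀d
    have hP₀ : P₀ ≤ (P : Subgroup G) := map_subtype_le _
    have hne : N ⊔ P₀ ≠ ⊤ := fun h => by
      have h1 := Coprime.card_sup_eq (N := N) (H := P₀) (by rw [normalizer_eq_top]; exact le_top)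
        (le_bot_iff.mp (hdisj ▸ inf_le_inf_left _ hP₀))
      rw [h, ← hgen, Coprime.card_sup_eq (by rw [normalizer_eq_top]; exact le_top) hdisj] at h1
      have h2 := Nat.eq_of_mul_eq_mul_left Nat.card_pos h1
      rw [hP₀d, card_map_of_injective (P : Subgroup G).subtype_injective] at h2
      exact hM.1 (eq_top_of_card_eq _ h2.symm)
    have hc := hK P₀ hP₀ N le_rfl (by rw [normalizer_eq_top]; exact le_top) hne
    have hn : P₀.Normal := by
      rw [← normalizer_eq_top_iff, eq_top_iff, ← hgen]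
      refine sup_le (fun k hk => centralizer_le_normalizer _ (mem_centralizer_iff.mpr
        fun x hx => hc x hx k hk)) ?_
      exact (le_top.trans_eq (normalizer_eq_top (M)).symm : (⊤ : Subgroup (P : Subgroup G)) ≤ _)
        |> fun h => (by
          have h3 := (map_mono h).trans (le_normalizer_map (P : Subgroup G).subtype)
          rwa [← MonoidHom.range_eq_map, range_subtype] at h3)
    by_contra hne0
    have hP0ne : P₀ ≠ ⊥ := fun h => hne0 (by
      rwa [hP₀d, map_eq_bot_iff_of_injective _ (P : Subgroup G).subtype_injective] at h)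
    have := himg P₀ hP0ne
    rw [sup_eq_left.mpr hP₀] at this
    exact hPn this
  have hPne : (P : Subgroup G) ≠ ⊥ := fun h => hact (fun x hx k _ => by
    rw [h, mem_bot] at hx; simp [hx])
  have hdvd : p ∣ Nat.card (P : Subgroup G) := by
    obtain ⟨k, hk⟩ := IsPGroup.iff_card.mp P.2
    rcases k with _ | k
    · exact absurd (eq_bot_of_card_eq _ (hk.trans (pow_zero p))) hPne
    · exact hk ▸ dvd_pow_self p k.succ_ne_zero
  obtain ⟨x, hx⟩ := exists_prime_orderOf_dvd_card' (G := (P : Subgroup G)) p hdvd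
  rcases eq_top_or_exists_le_coatom (zpowers x) with h | ⟨M, hM, hle⟩
  · rw [← card_top (G := (P : Subgroup G)), ← h, Nat.card_zpowers, hx]
  · exfalso
    rw [hM0 M hM, le_bot_iff, zpowers_eq_bot] at hle
    rw [hle, orderOf_one] at hx
    exact (Fact.out : p.Prime).ne_one hx.symm

theorem structure_of_omega (hnc : ¬ (∃ H : Subgroup G, (H : Set G) = {g : G | g ^ p = 1}))
    (hsub : ∀ K : Subgroup G, K ≠ ⊤ → (∃ H : Subgroup ↥K, (H : Set ↥K) = {g : ↥K | g ^ p = 1}))
    (hquo : ∀ (N : Subgroup G) [N.Normal], N ≠ ⊥ →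
      (∃ H : Subgroup (G ⧸ N), (H : Set (G ⧸ N)) = {g : (G ⧸ N) | g ^ p = 1}))
    (hns : ¬ IsSimpleGroup G) (hnp : ¬ IsPGroup p G) :
    ∃ q : ℕ, q.Prime ∧ q ≠ p ∧ Nat.card G = p * q ^ orderOf (q : ZMod p) ∧
      ∃ A : Subgroup G, A.Normal ∧ Nat.card ↥A = q ^ orderOf (q : ZMod p) ∧
        Cfsg.IsElementaryAbelian q A ∧ ∀ B : Subgroup G, B.Normal → B ≤ A → B = ⊥ ∨ B = A := by
  classical
  haveI : Nontrivial G := by
    by_contra h
    rw [not_nontrivial_iff_subsingleton] at h
    exact hnp fun g => ⟨0, Subsingleton.elim _ _⟩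
  obtain ⟨N, hNn, hN, hmin⟩ := Solvable.exists_minimal_normal (G := G)
  have hNtop : N ≠ ⊤ := fun h => hns
    ⟨fun B hB => (hmin B hB (h ▸ le_top)).imp_right (fun e => e.trans h)⟩
  -- `G` is generated by the solutions of `x ^ p = 1`
  have hgenX : closure {g : G | g ^ p = 1} = ⊤ := by
    by_contra h
    obtain ⟨O, hO⟩ := hsub _ h
    apply hnc
    refine ⟨O.map (closure {g : G | g ^ p = 1}).subtype, Set.ext fun g => ⟨?_, fun hg => ?_⟩⟩
    · rintro ⟨y, hy, rfl⟩
      exact congrArg Subtype.val ((Set.ext_iff.mp hO y).mp hy)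
    · exact ⟨⟨g, subset_closure hg⟩, (Set.ext_iff.mp hO _).mpr (Subtype.ext hg), rfl⟩
  have hQexp : ∀ z : G ⧸ N, z ^ p = 1 := by
    obtain ⟨O, hO⟩ := hquo N hN
    have htop : (⊤ : Subgroup G) ≤ O.comap (QuotientGroup.mk' N) := by
      rw [← hgenX, closure_le]
      intro g hg
      refine (Set.ext_iff.mp hO _).mpr ?_
      show (QuotientGroup.mk' N g) ^ p = 1
      rw [← map_pow, show g ^ p = 1 from hg, map_one]
    intro z
    obtain ⟨g, rfl⟩ := QuotientGroup.mk'_surjective N z
    exact (Set.ext_iff.mp hO _).mp (htop (mem_top g))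
  have hQp : IsPGroup p (G ⧸ N) := fun z => ⟨1, by rw [pow_one]; exact hQexp z⟩
  have hNp : ¬ p ∣ Nat.card N := by
    intro hd
    obtain ⟨O, hO⟩ := hsub N hNtop
    have hmem : ∀ g, g ∈ O ↔ g ^ p = 1 := fun g => Set.ext_iff.mp hO g
    obtain ⟨a, ha⟩ := exists_prime_orderOf_dvd_card' (G := N) p hd
    have hn : (O.map N.subtype).Normal := by
      constructor
      rintro _ ⟨y, hy, rfl⟩ g
      refine ⟨⟨g * y * g⁻¹, hNn.conj_mem y y.2 g⟩, (hmem _).mpr (Subtype.ext ?_), rfl⟩
      have := congrArg Subtype.val ((hmem y).mp hy)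
      simp only [SubgroupClass.coe_pow, OneMemClass.coe_one] at this ⊢
      rw [conj_pow, this, mul_one, mul_inv_cancel]
    rcases hmin _ hn (map_subtype_le _) with h | h
    · rw [map_eq_bot_iff_of_injective _ N.subtype_injective] at h
      have : a ∈ O := (hmem a).mpr (ha ▸ pow_orderOf_eq_one a)
      rw [h, mem_bot] at this
      rw [this, orderOf_one] at ha
      exact (Fact.out : p.Prime).ne_one ha.symm
    · refine hnp fun g => ⟨2, ?_⟩
      have hgN : g ^ p ∈ N := (QuotientGroup.eq_one_iff _).mp (hQexp (QuotientGroup.mk g))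
      rw [sq, pow_mul]
      obtain ⟨y, hy, hye⟩ := (h.symm ▸ hgN : g ^ p ∈ O.map N.subtype)
      rw [← hye]
      exact congrArg Subtype.val ((hmem y).mp hy)
  let P : Sylow p G := default
  have hcop : (Nat.card N).Coprime (Nat.card (P : Subgroup G)) := by
    obtain ⟨k, hk⟩ := IsPGroup.iff_card.mp P.2
    rw [hk]; exact (((Fact.out : p.Prime).coprime_iff_not_dvd.mpr hNp).symm).pow_right k
  have hdisj : N ⊓ (P : Subgroup G) = ⊥ := Coprime.inf_eq_bot_of_coprime hcop
  have hPexp : ∀ x ∈ (P : Subgroup G), x ^ p = 1 := fun x hx => by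
    rw [← mem_bot, ← hdisj]
    exact ⟨(QuotientGroup.eq_one_iff _).mp (hQexp (QuotientGroup.mk x)), pow_mem hx p⟩
  have hgen : N ⊔ (P : Subgroup G) = ⊤ := by
    have h1 : (P : Subgroup G).map (QuotientGroup.mk' N) = ⊤ := by
      rw [← Sylow.coe_mapSurjective (QuotientGroup.mk'_surjective N) P]
      exact ((P.mapSurjective (QuotientGroup.mk'_surjective N)).is_maximal'
        (hQp.to_subgroup ⊤) le_top).symm
    have h2 := congrArg (comap (QuotientGroup.mk' N)) h1
    rwa [comap_map_eq, comap_top, QuotientGroup.ker_mk', sup_comm] at h2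
  have hK : ∀ P₀ ≤ (P : Subgroup G), ∀ K ≤ N, P₀ ≤ normalizer (K : Set G) → K ⊔ P₀ ≠ ⊤ →
      Centralizes P₀ K := fun P₀ hP₀ K hK hn hne =>
    centralizes_of_omega hK hNp (P.2.to_le hP₀) hn (fun x hx => hPexp x (hP₀ hx)) (hsub _ hne)
  have hact : ¬ Centralizes (P : Subgroup G) N := by
    intro h
    haveI hPn := normal_of_centralizes N P hgen h
    refine hnc ⟨P, Set.ext fun g => ⟨hPexp g, fun (hg : g ^ p = 1) => ?_⟩⟩
    rw [SetLike.mem_coe, ← zpowers_le]
    have hz : IsPGroup p (zpowers g) := by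
      rintro ⟨y, hy⟩
      obtain ⟨i, rfl⟩ := mem_zpowers_iff.mp hy
      refine ⟨1, Subtype.ext ?_⟩
      rw [pow_one, SubgroupClass.coe_pow, ← zpow_natCast, ← zpow_mul, mul_comm, zpow_mul,
        zpow_natCast, hg, one_zpow]
      rfl
    obtain ⟨S, hS⟩ := hz.exists_le_sylow
    haveI := P.unique_of_normal hPn
    exact (Subsingleton.elim S P) ▸ hS
  refine structure_of_sylow_prime N hN hNp hmin P hgen ?_ hact (hK _ le_rfl)
  -- every cyclic subgroup generated by an element not centralising `N` is the whole Sylow subgroup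
  obtain ⟨x, hx, k, hk, hxk⟩ : ∃ x ∈ (P : Subgroup G), ∃ k ∈ N, x * k ≠ k * x := by
    by_contra h
    push Not at h
    exact hact h
  have htop : N ⊔ zpowers x = ⊤ := by
    by_contra h
    exact hxk (hK _ (zpowers_le.mpr hx) N le_rfl (by rw [normalizer_eq_top]; exact le_top) h x
      (mem_zpowers x) k hk)
  have h1 := Coprime.card_sup_eq (N := N) (H := zpowers x) (by rw [normalizer_eq_top]; exact le_top)
    (le_bot_iff.mp (hdisj ▸ inf_le_inf_left _ (zpowers_le.mpr hx)))
  rw [htop, ← hgen, Coprime.card_sup_eq (by rw [normalizer_eq_top]; exact le_top) hdisj,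
    Nat.card_zpowers] at h1
  rw [Nat.eq_of_mul_eq_mul_left Nat.card_pos h1]
  exact orderOf_eq_prime (hPexp x hx) fun e => hxk (by simp [e])

theorem converse {q : ℕ} (hq : q.Prime) (hpq : q ≠ p) (hna : ¬ IsMulCommutative G) (A : Subgroup G)
    [A.Normal] (hA : Cfsg.IsElementaryAbelian q A) (hidx : A.index = p)
    (hmin : ∀ B : Subgroup G, B.Normal → B ≤ A → B = ⊥ ∨ B = A) :
    Nat.card ↥A = q ^ orderOf (q : ZMod p) ∧ ¬ Cfsg.IsPClosed p G ∧
      (∀ H : Subgroup G, H ≠ ⊤ → Cfsg.IsPClosed p ↥H) ∧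
      ∀ (N : Subgroup G) [N.Normal], N ≠ ⊥ → Cfsg.IsPClosed p (G ⧸ N) := by
  classical
  haveI : Fact q.Prime := ⟨hq⟩
  obtain ⟨hAc, hexp⟩ := hA
  have hcA : ∀ a ∈ A, ∀ b ∈ A, a * b = b * a := fun a ha b hb =>
    congrArg Subtype.val (hAc.is_comm.comm (⟨a, ha⟩ : A) ⟨b, hb⟩)
  have hAq : IsPGroup q A := fun a => ⟨1, Subtype.ext (by simpa using hexp a a.2)⟩
  have hAp : ¬ p ∣ Nat.card A := by
    obtain ⟨k, hk⟩ := IsPGroup.iff_card.mp hAq
    rw [hk]
    exact fun h => hpq ((Nat.prime_dvd_prime_iff_eq Fact.out hq).mp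
      ((Fact.out : p.Prime).dvd_of_dvd_pow h)).symm
  obtain ⟨x, hx⟩ := exists_prime_orderOf_dvd_card' (G := G) p (hidx ▸ A.index_dvd_card)
  have hxA : x ∉ A := fun h => hAp (hx ▸ (Subgroup.orderOf_mk (H := A) x h).symm ▸
    orderOf_dvd_natCard (⟨x, h⟩ : A))
  have hgen : A ⊔ zpowers x = ⊤ := by
    rcases (Nat.dvd_prime (Fact.out : p.Prime)).mp (hidx ▸ index_dvd_of_le (le_sup_left : A ≤ A ⊔ zpowers x))
      with h | h
    · exact index_eq_one.mp h
    · exfalso
      apply hxA
      have hrel := relIndex_mul_index (le_sup_left : A ≤ A ⊔ zpowers x)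
      rw [h, hidx] at hrel
      have h1 : A.relIndex (A ⊔ zpowers x) = 1 :=
        Nat.eq_of_mul_eq_mul_right (Fact.out : p.Prime).pos (by rw [hrel, one_mul])
      exact relIndex_eq_one.mp h1 (mem_sup_right (mem_zpowers x))
  have hxn : x ∉ centralizer (A : Set G) := by
    intro h
    have hc : Centralizes (zpowers x) A := by
      intro y hy k hk
      obtain ⟨i, rfl⟩ := mem_zpowers_iff.mp hy
      exact (Commute.zpow_left (show Commute x k from (mem_centralizer_iff.mp h k hk).symm) i).eq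
    apply hna
    have hall : ∀ g h : G, g * h = h * g := by
      have hdec : ∀ g : G, ∃ a ∈ A, ∃ i : ℤ, g = a * x ^ i := fun g => by
        obtain ⟨a, ha, y, hy, e⟩ := Coprime.exists_mul_of_mem_sup (N := A) (H := zpowers x)
          (by rw [normalizer_eq_top]; exact le_top) (hgen ▸ mem_top g : g ∈ _)
        obtain ⟨i, rfl⟩ := mem_zpowers_iff.mp hy
        exact ⟨a, ha, i, e.symm⟩
      intro g h
      obtain ⟨a, ha, i, rfl⟩ := hdec g
      obtain ⟨b, hb, j, rfl⟩ := hdec h
      have c1 : Commute a b := hcA a ha b hb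
      have c2 : ∀ (k : ℤ) (c : G), c ∈ A → Commute (x ^ k) c := fun k c hc' =>
        hc _ (zpow_mem (mem_zpowers x) k) c hc'
      exact ((c1.mul_right (c2 j a ha).symm).mul_left
        ((c2 i b hb).mul_right (Commute.zpow_zpow_self x i j))).eq
    exact ⟨⟨hall⟩⟩
  have hne : A ≠ ⊥ := fun h => hxn (h ▸ mem_centralizer_iff.mpr (fun k hk => by
    rw [SetLike.mem_coe, mem_bot] at hk; simp [hk]))
  have hcard := card_minimal_normal (p := p) hq hpq A hne hcA hexp x
    (by rw [← hx, pow_orderOf_eq_one]; exact one_mem _) hgen hxn hmin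
  have hG : Nat.card G = Nat.card A * p := by rw [← hidx, A.card_mul_index]
  have hfac : (Nat.card G).factorization p = 1 := by
    rw [hG, Nat.factorization_mul Nat.card_pos.ne' (Fact.out : p.Prime).ne_zero, Finsupp.add_apply,
      Nat.factorization_eq_zero_of_not_dvd hAp, (Fact.out : p.Prime).factorization_self]
  let P : Sylow p G := Sylow.ofCard (zpowers x) (by rw [Nat.card_zpowers, hx, hfac, pow_one])
  have hnc : ¬ Cfsg.IsPClosed p G := by
    intro h
    apply hxn
    have hn : (zpowers x).Normal := h P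
    rw [mem_centralizer_iff]
    intro a ha
    refine (centralizes_of_normal (H := ⊤) le_top le_top (normal_subgroupOf)
      (by rw [normalizer_eq_top]; exact le_top) ?_ x (mem_zpowers x) a ha).symm
    refine Coprime.inf_eq_bot_of_coprime ?_
    rw [Nat.card_zpowers, hx]
    exact ((Fact.out : p.Prime).coprime_iff_not_dvd.mpr hAp).symm
  refine ⟨hcard, hnc, fun H hH => ?_, fun N _ hN => ?_⟩
  · by_cases hd : p ∣ Nat.card H
    · obtain ⟨y, hy⟩ := exists_prime_orderOf_dvd_card' (G := H) p hd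
      have hyA : (y : G) ∉ A := fun h => hAp (by
        have := orderOf_dvd_natCard (⟨(y : G), h⟩ : A)
        rwa [Subgroup.orderOf_mk, orderOf_coe, hy] at this)
      have htop : A ⊔ zpowers (y : G) = ⊤ := by
        rcases (Nat.dvd_prime (Fact.out : p.Prime)).mp
          (hidx ▸ index_dvd_of_le (le_sup_left : A ≤ A ⊔ zpowers (y : G))) with h | h
        · exact index_eq_one.mp h
        · exfalso
          apply hyA
          have hrel := relIndex_mul_index (le_sup_left : A ≤ A ⊔ zpowers (y : G))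
          rw [h, hidx] at hrel
          have h1 : A.relIndex (A ⊔ zpowers (y : G)) = 1 :=
            Nat.eq_of_mul_eq_mul_right (Fact.out : p.Prime).pos (by rw [hrel, one_mul])
          exact relIndex_eq_one.mp h1 (mem_sup_right (mem_zpowers (y : G)))
      have hHA : H ⊓ A = ⊥ := by
        refine (hmin (H ⊓ A) ?_ inf_le_right).resolve_right fun h => hH ?_
        · rw [← normalizer_eq_top_iff, eq_top_iff, ← htop]
          refine sup_le (fun a ha => ?_) (zpowers_le.mpr ?_)
          · refine centralizer_le_normalizer _ (mem_centralizer_iff.mpr fun b hb => ?_)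
            exact hcA b hb.2 a ha
          · exact inf_normalizer_le_normalizer_inf
              ⟨le_normalizer y.2, by rw [normalizer_eq_top]; exact mem_top _⟩
        · rw [eq_top_iff, ← htop]
          exact sup_le (h ▸ inf_le_left) (zpowers_le.mpr y.2)
      refine isPClosed_of_isPGroup (IsPGroup.of_card (n := 1) ?_)
      have h1 := relIndex_dvd_index_of_normal A H
      rw [hidx, relIndex, ← inf_subgroupOf_left, hHA, bot_subgroupOf, index_bot] at h1
      rw [pow_one]
      exact ((Nat.dvd_prime (Fact.out : p.Prime)).mp h1).resolve_left fun e =>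
        (Fact.out : p.Prime).ne_one (Nat.dvd_one.mp (e ▸ hd))
    · intro S
      have : (S : Subgroup H) = ⊥ := by
        obtain ⟨k, hk⟩ := IsPGroup.iff_card.mp S.2
        rcases k with _ | k
        · exact eq_bot_of_card_eq _ (hk.trans (pow_zero p))
        · exact absurd ((hk ▸ dvd_pow_self p k.succ_ne_zero).trans (card_subgroup_dvd_card _)) hd
      rw [this]; infer_instance
  · rcases hmin (N ⊓ A) inferInstance inf_le_right with h | h
    · exfalso
      apply hnc
      intro S
      have h1 := relIndex_dvd_index_of_normal A N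
      rw [hidx, relIndex, ← inf_subgroupOf_left, h, bot_subgroupOf, index_bot] at h1
      have hNc : Nat.card N = p := ((Nat.dvd_prime (Fact.out : p.Prime)).mp h1).resolve_left
        fun e => hN (eq_bot_of_card_eq _ e)
      have hle := (IsPGroup.of_card (p := p) (G := N) (n := 1) (by rw [hNc, pow_one])).le_sylow_of_normal S
      have : N = (S : Subgroup G) := eq_of_le_of_card_ge hle (by
        rw [hNc, S.card_eq_multiplicity, hfac, pow_one])
      exact this ▸ ‹N.Normal›
    · refine isPClosed_of_isPGroup ?_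
      have hle : A ≤ N := h ▸ inf_le_left
      have hd := index_dvd_of_le hle
      rw [hidx] at hd
      rcases (Nat.dvd_prime (Fact.out : p.Prime)).mp hd with e | e
      · exact IsPGroup.of_card (n := 0) (by rw [← index_eq_card, e, pow_zero])
      · exact IsPGroup.of_card (n := 1) (by rw [← index_eq_card, e, pow_one])

end CfsgLib.MinimalNonClosed
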